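import Groth.Agent.RectCons.Cons
import Groth.Agent.Codepth5.Sk
import Groth.Agent.S6285

/-!
# The level sets of the rectified depth of the fibres are locally constructible
-/

set_option autoImplicit false
set_option linter.style.haveILetI false
set_option backward.isDefEq.respectTransparency false
set_option backward.isDefEq.respectTransparency.types false

universe u

open CategoryTheory AlgebraicGeometry IsLocalRing TensorProduct Topology
open Groth.Agent.RegLoc6 Groth.Agent.Codepth5
open Groth.Agent.FibDim (fib)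

noncomputable section

namespace Groth.Agent.RectCons

section Poly

variable {R : Type u} [CommRing R] {N : ℕ} (M : Type u) [AddCommGroup M] [Module (MvPolynomial (Fin N) R) M]
  [Module.FinitePresentation (MvPolynomial (Fin N) R) M]

theorem isConstructible_rectGE (n : ℕ) :
    IsConstructible {q : PrimeSpectrum (MvPolynomial (Fin N) R) | RectGE R M n q} := by
  have key : ∀ q, RectGE R M n q ↔
      q ∉ Module.support (MvPolynomial (Fin N) R) M ∨
        (n ≤ N ∧ q ∈ W R N M (N - n)) := by
    intro q
    rw [RectGE]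
    rcases exists_invariants M q with ⟨hns, hdd, -⟩ | ⟨d, D, a, haD, hDd, hdN, hs, hdd, hh, hW, -⟩
    · refine iff_of_true ?_ (Or.inl hns)
      rw [hdd, top_add]
      exact le_top
    · have hc := height_add_coheight_fib _ (⟨q, rfl⟩ : ↥(fib (B := MvPolynomial (Fin N) R)
        (PrimeSpectrum.comap (algebraMap R (MvPolynomial (Fin N) R)) q)))
      rw [hh] at hc
      rw [hdd, W, Set.mem_ofPred_eq, hW]
      dsimp only
      generalize Order.coheight (⟨q, rfl⟩ : ↥(fib (B := MvPolynomial (Fin N) R)
        (PrimeSpectrum.comap (algebraMap R (MvPolynomial (Fin N) R)) q))) = c at hc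
      induction c using ENat.recTopCoe with
      | top => simp at hc
      | coe c =>
        have hc' : d + c = N := by exact_mod_cast hc
        constructor
        · intro h
          have h' : n ≤ a + c := by exact_mod_cast h
          exact Or.inr ⟨by omega, by omega⟩
        · rintro (h | ⟨h1, h2⟩)
          · exact absurd hs h
          · exact_mod_cast (show n ≤ a + c by omega)
  have hs : IsConstructible (Module.support (MvPolynomial (Fin N) R) M)ᶜ :=
    (Groth.Agent.S6285.result (MvPolynomial (Fin N) R) M).2.isConstructible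
      (Groth.Agent.S6285.result (MvPolynomial (Fin N) R) M).1.isOpen_compl
  by_cases hn : n ≤ N
  · convert hs.union (isConstructible_W M (N - n)) using 1
    ext q
    exact (key q).trans (or_congr Iff.rfl (and_iff_right hn))
  · convert hs using 1
    ext q
    exact (key q).trans (or_iff_left fun h => hn h.1)

theorem rectGE_top_iff (q : PrimeSpectrum (MvPolynomial (Fin N) R)) (n : ℕ) (hn : N < n) :
    RectGE R M n q ↔ ∀ m : ℕ, RectGE R M m q := by
  have key : ∀ n q, RectGE R M n q ↔
      q ∉ Module.support (MvPolynomial (Fin N) R) M ∨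
        (n ≤ N ∧ q ∈ W R N M (N - n)) := by
    intro n q
    rw [RectGE]
    rcases exists_invariants M q with ⟨hns, hdd, -⟩ | ⟨d, D, a, haD, hDd, hdN, hs, hdd, hh, hW, -⟩
    · refine iff_of_true ?_ (Or.inl hns)
      rw [hdd, top_add]
      exact le_top
    · have hc := height_add_coheight_fib _ (⟨q, rfl⟩ : ↥(fib (B := MvPolynomial (Fin N) R)
        (PrimeSpectrum.comap (algebraMap R (MvPolynomial (Fin N) R)) q)))
      rw [hh] at hc
      rw [hdd, W, Set.mem_ofPred_eq, hW]
      dsimp only
      generalize Order.coheight (⟨q, rfl⟩ : ↥(fib (B := MvPolynomial (Fin N) R)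
        (PrimeSpectrum.comap (algebraMap R (MvPolynomial (Fin N) R)) q))) = c at hc
      induction c using ENat.recTopCoe with
      | top => simp at hc
      | coe c =>
        have hc' : d + c = N := by exact_mod_cast hc
        constructor
        · intro h
          have h' : n ≤ a + c := by exact_mod_cast h
          exact Or.inr ⟨by omega, by omega⟩
        · rintro (h | ⟨h1, h2⟩)
          · exact absurd hs h
          · exact_mod_cast (show n ≤ a + c by omega)
  refine ⟨fun h m => ((key n q).1 h).elim (fun h => (key m q).2 (Or.inl h)) fun h => absurd h.1 (by omega),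
    fun h => h n⟩

end Poly

section Affine

variable {A B : Type u} [CommRing A] [CommRing B] [Algebra A B] [Algebra.FinitePresentation A B]
  (M : Type u) [AddCommGroup M] [Module B M] [Module A M] [IsScalarTower A B M] [Module.FinitePresentation B M]

theorem exists_presentation :
    ∃ (n : ℕ) (_ : Algebra (MvPolynomial (Fin n) A) B) (_ : Module (MvPolynomial (Fin n) A) M)
      (_ : IsScalarTower A (MvPolynomial (Fin n) A) B) (_ : IsScalarTower (MvPolynomial (Fin n) A) B M)
      (_ : IsScalarTower A (MvPolynomial (Fin n) A) M),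
      Function.Surjective (algebraMap (MvPolynomial (Fin n) A) B) ∧
        Module.FinitePresentation (MvPolynomial (Fin n) A) M := by
  obtain ⟨n, f, hf, hker⟩ := Algebra.FinitePresentation.out (R := A) (A := B)
  letI : Algebra (MvPolynomial (Fin n) A) B := f.toRingHom.toAlgebra
  haveI h1 : IsScalarTower A (MvPolynomial (Fin n) A) B :=
    IsScalarTower.of_algebraMap_eq fun a => (f.commutes a).symm
  letI iM : Module (MvPolynomial (Fin n) A) M := Module.compHom M f.toRingHom
  haveI h2 : IsScalarTower (MvPolynomial (Fin n) A) B M := IsScalarTower.of_algebraMap_smul fun _ _ => rfl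
  haveI h3 : IsScalarTower A (MvPolynomial (Fin n) A) M := IsScalarTower.of_algebraMap_smul fun a m => by
    show f (algebraMap A (MvPolynomial (Fin n) A) a) • m = a • m
    rw [f.commutes, algebraMap_smul]
  haveI : Module.FinitePresentation (MvPolynomial (Fin n) A) B :=
    Module.finitePresentation_of_surjective (Algebra.linearMap (MvPolynomial (Fin n) A) B) hf (by
      rwa [show LinearMap.ker (Algebra.linearMap (MvPolynomial (Fin n) A) B) = RingHom.ker f.toRingHom from
        Submodule.ext fun _ => Iff.rfl])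
  exact ⟨n, inferInstance, iM, h1, h2, h3, hf, Module.FinitePresentation.trans (MvPolynomial (Fin n) A) M B⟩

theorem rectGE_comap {N : ℕ} [Algebra (MvPolynomial (Fin N) A) B] [Module (MvPolynomial (Fin N) A) M]
    [IsScalarTower A (MvPolynomial (Fin N) A) B] [IsScalarTower (MvPolynomial (Fin N) A) B M]
    (hf : Function.Surjective (algebraMap (MvPolynomial (Fin N) A) B)) (n : ℕ) (q : PrimeSpectrum B) :
    RectGE A M n q ↔ RectGE A M n (PrimeSpectrum.comap (algebraMap (MvPolynomial (Fin N) A) B) q) := by
  rw [RectGE, RectGE, transfer hf q,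
    show dd (Localization.AtPrime (PrimeSpectrum.comap (algebraMap (MvPolynomial (Fin N) A) B) q).asIdeal)
      (EGA4.FibLocMod A (MvPolynomial (Fin N) A) (PrimeSpectrum.comap (algebraMap (MvPolynomial (Fin N) A) B) q).asIdeal M) =
      dd (Localization.AtPrime q.asIdeal) (EGA4.FibLocMod A B q.asIdeal M) from dd_surjective hf M q]

theorem isConstructible_rectGE_affine :
    (∀ n : ℕ, IsConstructible {q : PrimeSpectrum B | RectGE A M n q}) ∧
      ∃ N : ℕ, ∀ q : PrimeSpectrum B, RectGE A M (N + 1) q → ∀ m : ℕ, RectGE A M m q := by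
  obtain ⟨N, iB, iM, h1, h2, h3, hf, hfp⟩ := exists_presentation (A := A) (B := B) M
  refine ⟨fun n => ?_, N, fun q h m => (rectGE_comap M hf m q).2
    ((rectGE_top_iff M _ (N + 1) N.lt_succ_self).1 ((rectGE_comap M hf (N + 1) q).1 h) m)⟩
  convert ProConsLib.isConstructible_preimage (WLocalLib.isSpectralMap_comap (algebraMap (MvPolynomial (Fin N) A) B))
    (isConstructible_rectGE M n) using 1
  exact Set.ext fun q => rectGE_comap M hf n q

end Affine

section Scheme

variable {X Y : Scheme.{u}} (f : X ⟶ Y) [LocallyOfFinitePresentation f]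

theorem level_isLocallyConstructible (F : X.Modules) (hF : CohB1.IsFP F) (n : ℕ∞) :
    IsLocallyConstructible {x : X |
      ((LocCoh.depth ((f.fiber (f.base x)).presheaf.stalk (f.asFiber x))
        (((Scheme.Modules.pullback (f.fiberι (f.base x))).obj F).presheaf.stalk (f.asFiber x)) : ℕ∞) : WithBot ℕ∞) +
        topologicalKrullDim ↥(closure ({f.asFiber x} : Set ↥(f.fiber (f.base x)))) = ((n : ℕ∞) : WithBot ℕ∞)} := by
  have hM := QCoh.isQCoh_of_isFP hF
  intro x
  obtain ⟨V, hV, hxV, -⟩ := exists_isAffineOpen_mem_and_subset (U := (⊤ : Y.Opens)) (x := f x) trivial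
  obtain ⟨U, hU, hxU, hUV⟩ := exists_isAffineOpen_mem_and_subset (U := f ⁻¹ᵁ V) (x := x) hxV
  letI : Algebra Γ(Y, V) Γ(X, U) := (f.appLE V U hUV).hom.toAlgebra
  haveI : Algebra.FinitePresentation Γ(Y, V) Γ(X, U) := f.finitePresentation_appLE hV hU hUV
  letI : Module Γ(Y, V) Γ(F, U) := Module.compHom _ (f.appLE V U hUV).hom
  haveI : IsScalarTower Γ(Y, V) Γ(X, U) Γ(F, U) := IsScalarTower.of_algebraMap_smul fun _ _ => rfl
  haveI := QCoh.finitePresentation_of_isFP hF hU
  let v : PrimeSpectrum Γ(X, U) → ℕ∞ := fun q =>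
    (dd (Localization.AtPrime q.asIdeal) (EGA4.FibLocMod Γ(Y, V) Γ(X, U) q.asIdeal Γ(F, U))).2 +
      Order.coheight (⟨q, rfl⟩ : ↥(fib (B := Γ(X, U)) (PrimeSpectrum.comap (algebraMap Γ(Y, V) Γ(X, U)) q)))
  have key : ∀ z (hz : z ∈ U),
      ((LocCoh.depth ((f.fiber (f.base z)).presheaf.stalk (f.asFiber z))
        (((Scheme.Modules.pullback (f.fiberι (f.base z))).obj F).presheaf.stalk (f.asFiber z)) : ℕ∞) : WithBot ℕ∞) +
        topologicalKrullDim ↥(closure ({f.asFiber z} : Set ↥(f.fiber (f.base z)))) =
      ((v (hU.primeIdealOf ⟨z, hz⟩) : ℕ∞) : WithBot ℕ∞) := fun z hz => by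
    letI := QCoh.stalkModule F hz
    haveI := QCoh.isLocalizedModule_germLin hM hU hz
    have h := congrArg Prod.snd ((fibre_dd_eq f F z _ _ (f.fiberι_asFiber z)).trans
      (dd_chart_eq f hU hV hUV hz (fun _ _ => rfl) (QCoh.germLin F hz)))
    have hd : topologicalKrullDim ↥(closure ({f.asFiber z} : Set ↥(f.fiber (f.base z)))) =
        ((FibDim.rd f z : ℕ∞) : WithBot ℕ∞) :=
      VarDim.topologicalKrullDim_closure_singleton (k := Y.residueField (f z)) (f.fiberToSpecResidueField (f z))
        (f.asFiber z)
    have hc := coheight_eq_rd f hU hV hUV (hU.primeIdealOf ⟨z, hz⟩)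
    rw [hU.fromSpec_primeIdealOf ⟨z, hz⟩] at hc
    rw [hd, ← WithBot.coe_add]
    show _ = (((dd _ _).2 + _ : ℕ∞) : WithBot ℕ∞)
    rw [hc]
    exact congrArg (fun a : ℕ∞ => ((a + _ : ℕ∞) : WithBot ℕ∞)) h
  obtain ⟨hcons, N, htop⟩ := isConstructible_rectGE_affine (A := Γ(Y, V)) (B := Γ(X, U)) Γ(F, U)
  have hT : IsConstructible {q : PrimeSpectrum Γ(X, U) | v q = n} := by
    induction n using ENat.recTopCoe with
    | top =>
      convert hcons (N + 1) using 1
      exact Set.ext fun q => ⟨fun h => le_top.trans h.ge, fun h => ENat.eq_top_iff_forall_ge.2 fun m => htop q h m⟩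
    | coe n =>
      convert (hcons n).sdiff (hcons (n + 1)) using 1
      refine Set.ext fun q => ?_
      show v q = n ↔ (n : ℕ∞) ≤ v q ∧ ¬ (((n + 1 : ℕ) : ℕ∞) ≤ v q)
      generalize v q = a
      induction a using ENat.recTopCoe with
      | top => simp
      | coe a =>
        norm_cast
        omega
  refine ⟨U, U.2.mem_nhds hxU, U.2, ?_⟩
  have hf : IsOpenEmbedding (fun z : ↥(U : Set X) => hU.primeIdealOf ⟨z.1, z.2⟩) :=
    (Scheme.homeoOfIso hU.isoSpec).isOpenEmbedding
  have hUe := hT.preimage_of_isOpenEmbedding hf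
  refine Eq.subst (motive := IsConstructible) (Set.ext fun z => ?_) hUe
  show v (hU.primeIdealOf ⟨z.1, z.2⟩) = n ↔ _ = ((n : ℕ∞) : WithBot ℕ∞)
  rw [key z.1 z.2]
  exact WithBot.coe_inj.symm

end Scheme

end Groth.Agent.RectCons
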