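import Groth.Agent.RectCons.Inv
import Groth.Agent.GenFree.Basic
import Groth.Agent.ProConsLib.Image
import Groth.Agent.WLocalLib.Spectral
import Mathlib.RingTheory.Spectrum.Prime.Chevalley
import Mathlib.RingTheory.Spectrum.Prime.Jacobson

/-!
# The fibre projective dimension loci are constructible
-/

set_option autoImplicit false
set_option linter.style.haveILetI false
set_option backward.isDefEq.respectTransparency false
set_option backward.isDefEq.respectTransparency.types false

universe u

open IsLocalRing TensorProduct MvPolynomial Topology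
open Groth.Agent.RegLoc6

noncomputable section

namespace Groth.Agent.RectCons

theorem flat_of_gfree {R : Type u} [CommRing R] {f : R} {M : Type u} [AddCommGroup M] [Module R M]
    (h : GenFree.GFree R f M) (R' : Type u) [CommRing R'] [Algebra R R'] [IsLocalization.Away f R'] :
    Module.Flat R' (R' ⊗[R] M) := by
  obtain ⟨ι, φ, hφ, hr⟩ := h
  haveI : Module.Flat R R' := IsLocalization.flat R' (Submonoid.powers f)
  let ψ : R' ⊗[R] (ι →₀ R) →ₗ[R'] R' ⊗[R] M := φ.baseChange R'
  have hinj : Function.Injective ψ := Module.Flat.lTensor_preserves_injective_linearMap φ hφ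
  have hsurj : Function.Surjective ψ := by
    intro z
    induction z using TensorProduct.induction_on with
    | zero => exact ⟨0, map_zero _⟩
    | add a b ha hb =>
      obtain ⟨a, rfl⟩ := ha
      obtain ⟨b, rfl⟩ := hb
      exact ⟨a + b, map_add _ _ _⟩
    | tmul r m =>
      obtain ⟨k, v, hv⟩ := hr m
      obtain ⟨w, hw⟩ := (IsLocalization.Away.algebraMap_isUnit f (S := R')).pow k
      refine ⟨(r * ↑w⁻¹) ⊗ₜ[R] v, ?_⟩
      show (r * ↑w⁻¹) ⊗ₜ[R] φ v = r ⊗ₜ[R] m
      rw [hv, tmul_smul, TensorProduct.smul_tmul', Algebra.smul_def, map_pow, ← hw]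
      congr 1
      rw [mul_comm r, Units.mul_inv_cancel_left]
  exact Module.Flat.of_linearEquiv (LinearEquiv.ofBijective ψ ⟨hinj, hsurj⟩).symm

variable {R : Type u} [CommRing R] {N : ℕ}

/-- The locus of fibre projective dimension at most `j`. -/
def W (R : Type u) [CommRing R] (N : ℕ) (M : Type u) [AddCommGroup M] [Module (MvPolynomial (Fin N) R) M] (j : ℕ) : Set (PrimeSpectrum (MvPolynomial (Fin N) R)) :=
  {q | PdLE (EGA4.FibLocRing R (MvPolynomial (Fin N) R) q.asIdeal) j
    (EGA4.FibLocRing R (MvPolynomial (Fin N) R) q.asIdeal ⊗[MvPolynomial (Fin N) R] M)}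

variable (M : Type u) [AddCommGroup M] [Module (MvPolynomial (Fin N) R) M]

theorem preimage_W [Module.Finite (MvPolynomial (Fin N) R) M] {R' : Type u} [CommRing R'] (φ : R →+* R') (j : ℕ) :
    letI : Algebra (MvPolynomial (Fin N) R) (MvPolynomial (Fin N) R') := (MvPolynomial.map φ).toAlgebra
    W R' N (MvPolynomial (Fin N) R' ⊗[MvPolynomial (Fin N) R] M) j =
      PrimeSpectrum.comap (MvPolynomial.map φ) ⁻¹' W R N M j :=
  Set.ext fun q' => pdLE_fibre_baseChange φ M q' j

theorem exists_presentation_equiv {B₀ B : Type u} [CommRing B₀] [CommRing B] [Algebra B₀ B] {M : Type u}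
    [AddCommGroup M] [Module B M] {a b : ℕ} (π : (Fin b → B) →ₗ[B] M) (hπ : Function.Surjective π)
    (ρ : (Fin a → B) →ₗ[B] (Fin b → B)) (hρ : LinearMap.range ρ = LinearMap.ker π)
    (c : Fin a → Fin b → B₀) (hc : ∀ i k, algebraMap B₀ B (c i k) = ρ (Pi.single i 1) k) :
    Nonempty (B ⊗[B₀] ((Fin b → B₀) ⧸ LinearMap.range (Fintype.linearCombination B₀ c)) ≃ₗ[B] M) := by
  classical
  let M₀ : Type u := (Fin b → B₀) ⧸ LinearMap.range (Fintype.linearCombination B₀ c)
  letI : Module B₀ M := Module.compHom M (algebraMap B₀ B)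
  haveI : IsScalarTower B₀ B M := IsScalarTower.of_algebraMap_smul fun _ _ => rfl
  let u : (Fin b → B₀) →ₗ[B₀] M := (π.restrictScalars B₀) ∘ₗ ((Algebra.linearMap B₀ B).compLeft (Fin b))
  have hu : ∀ i, u (c i) = 0 := fun i => by
    show π (fun k => algebraMap B₀ B (c i k)) = 0
    have : ρ (Pi.single i 1) ∈ LinearMap.ker π := hρ ▸ LinearMap.mem_range_self ρ _
    convert LinearMap.mem_ker.1 this using 2
    exact funext (hc i)
  let g : M₀ →ₗ[B₀] M := Submodule.liftQ _ u (by
    rw [Fintype.range_linearCombination, Submodule.span_le]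
    rintro _ ⟨i, rfl⟩
    exact hu i)
  let G : B ⊗[B₀] M₀ →ₗ[B] M := LinearMap.liftBaseChange B g
  let σ : (Fin b → B) →ₗ[B] B ⊗[B₀] M₀ :=
    Fintype.linearCombination B fun k => (1 : B) ⊗ₜ[B₀] (Submodule.Quotient.mk (Pi.single k 1) : M₀)
  have hGσ : ∀ v, G (σ v) = π v := by
    have : G ∘ₗ σ = π := (Pi.basisFun B (Fin b)).ext fun k => by
      simp only [Pi.basisFun_apply, LinearMap.comp_apply, σ, Fintype.linearCombination_apply_single, one_smul, G,
        LinearMap.liftBaseChange_tmul]
      show π (fun l => algebraMap B₀ B (Pi.single (M := fun _ => B₀) k 1 l)) = _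
      congr 1
      funext l
      rcases eq_or_ne l k with rfl | h
      · simp
      · simp [h]
    exact LinearMap.congr_fun this
  have hσv : ∀ v : Fin b → B₀, σ (fun k => algebraMap B₀ B (v k)) = (1 : B) ⊗ₜ[B₀] (Submodule.Quotient.mk v : M₀) := by
    intro v
    have hv : (Submodule.Quotient.mk v : M₀) = ∑ k, v k • (Submodule.Quotient.mk (Pi.single k 1) : M₀) := by
      conv_lhs => rw [pi_eq_sum_univ' v]
      rw [← Submodule.mkQ_apply, map_sum]
      exact Finset.sum_congr rfl fun k _ => by rw [map_smul]; rfl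
    rw [hv, TensorProduct.tmul_sum]
    simp only [σ, Fintype.linearCombination_apply, TensorProduct.tmul_smul, algebraMap_smul]
  have hker : LinearMap.ker π ≤ LinearMap.ker σ := by
    rw [← hρ]
    rintro _ ⟨w, rfl⟩
    have : σ ∘ₗ ρ = 0 := (Pi.basisFun B (Fin a)).ext fun i => by
      simp only [Pi.basisFun_apply, LinearMap.comp_apply, LinearMap.zero_apply]
      rw [show ρ (Pi.single i 1) = fun k => algebraMap B₀ B (c i k) from funext fun k => (hc i k).symm, hσv,
        (Submodule.Quotient.mk_eq_zero _).2 (by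
          rw [Fintype.range_linearCombination]; exact Submodule.subset_span ⟨i, rfl⟩), tmul_zero]
    exact LinearMap.congr_fun this w
  have hσ : Function.Surjective σ := by
    intro z
    induction z using TensorProduct.induction_on with
    | zero => exact ⟨0, map_zero _⟩
    | add x y hx hy =>
      obtain ⟨x, rfl⟩ := hx
      obtain ⟨y, rfl⟩ := hy
      exact ⟨x + y, map_add _ _ _⟩
    | tmul r m =>
      obtain ⟨v, rfl⟩ := Submodule.Quotient.mk_surjective _ m
      exact ⟨r • fun k => algebraMap B₀ B (v k), by rw [map_smul, hσv, smul_tmul', smul_eq_mul, mul_one]⟩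
  refine ⟨LinearEquiv.ofBijective G ⟨(injective_iff_map_eq_zero G).2 fun z hz => ?_, fun m => ?_⟩⟩
  · obtain ⟨v, rfl⟩ := hσ z
    exact hker (show π v = 0 by rw [← hGσ]; exact hz)
  · obtain ⟨v, rfl⟩ := hπ m
    exact ⟨σ v, hGσ v⟩

theorem flat_pushout {A R' P P' : Type u} [CommRing A] [CommRing R'] [CommRing P] [CommRing P'] [Algebra A R'] [Algebra A P]
    [Algebra P P'] [Algebra A P'] [Algebra R' P'] [IsScalarTower A P P'] [IsScalarTower A R' P']
    [Algebra.IsPushout A R' P P'] (Mb : Type u) [AddCommGroup Mb] [Module A Mb] [Module P Mb] [IsScalarTower A P Mb]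
    [Module.Flat R' (R' ⊗[A] Mb)] (Q : Type u) [AddCommGroup Q] [Module P' Q] [Module R' Q] [IsScalarTower R' P' Q]
    (e : P' ⊗[P] Mb ≃ₗ[P'] Q) : Module.Flat R' Q := by
  let e₂ := Algebra.IsPushout.cancelBaseChange A R' P P' Mb
  exact Module.Flat.of_linearEquiv (e₂.symm.trans (e.restrictScalars R')).symm

theorem exists_flat_module {A R' P P' : Type u} [CommRing A] [CommRing R'] [CommRing P] [CommRing P'] [Algebra A R']
    [Algebra A P] [Algebra P P'] [Algebra A P'] [Algebra R' P'] [IsScalarTower A P P'] [IsScalarTower A R' P']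
    [Algebra.IsPushout A R' P P'] (Mb : Type u) [AddCommGroup Mb] [Module A Mb] [Module P Mb] [IsScalarTower A P Mb]
    [Module.Flat R' (R' ⊗[A] Mb)] :
    ∃ i : Module R' (P' ⊗[P] Mb),
      @IsScalarTower R' P' (P' ⊗[P] Mb) _ (TensorProduct.leftModule (R := P) (R'' := P') (M := P') (N := Mb)).toDistribMulAction.toDistribSMul.toSMul
        i.toDistribMulAction.toDistribSMul.toSMul ∧ @Module.Flat R' (P' ⊗[P] Mb) _ _ i :=
  ⟨inferInstance, (inferInstance : IsScalarTower R' P' (P' ⊗[P] Mb)), flat_pushout (A := A) Mb _ (LinearEquiv.refl _ _)⟩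

theorem exists_away_gfree {A : Type u} [CommRing A] [IsDomain A] [IsNoetherianRing A] {N : ℕ} (Mb : Type u) [AddCommGroup Mb]
    [Module (MvPolynomial (Fin N) A) Mb] [Module.Finite (MvPolynomial (Fin N) A) Mb] [Module A Mb]
    [IsScalarTower A (MvPolynomial (Fin N) A) Mb] :
    ∃ s : A, s ≠ 0 ∧ ∀ (R' : Type u) [CommRing R'] [Algebra A R'] [IsLocalization.Away s R'],
      Module.Flat R' (R' ⊗[A] Mb) := by
  obtain ⟨s, hs, hg⟩ := GenFree.exists_gfree_mvPolynomial N Mb (R := A)
  exact ⟨s, hs, fun R' _ _ _ => flat_of_gfree hg R'⟩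

theorem finiteType_map {R' : Type u} [CommRing R'] {φ : R →+* R'} (h : φ.FiniteType) :
    (MvPolynomial.map φ : MvPolynomial (Fin N) R →+* MvPolynomial (Fin N) R').FiniteType := by
  letI : Algebra R R' := φ.toAlgebra
  haveI : Algebra.FiniteType R R' := h
  haveI : Algebra.FiniteType R (MvPolynomial (Fin N) R') :=
    Algebra.FiniteType.trans (R := R) (S := R') (A := MvPolynomial (Fin N) R') inferInstance inferInstance
  refine RingHom.FiniteType.of_comp_finiteType (f := C) (g := MvPolynomial.map φ) ?_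
  rw [show (MvPolynomial.map φ).comp C = algebraMap R (MvPolynomial (Fin N) R') from RingHom.ext fun r => map_C φ r]
  exact RingHom.finiteType_algebraMap.2 inferInstance

theorem isConstructible_W_of_flat {R' : Type u} [CommRing R'] [IsNoetherianRing R'] (M' : Type u) [AddCommGroup M']
    [Module (MvPolynomial (Fin N) R') M'] [Module R' M'] [IsScalarTower R' (MvPolynomial (Fin N) R') M']
    [Module.Finite (MvPolynomial (Fin N) R') M'] [Module.Flat R' M'] (j : ℕ) : IsConstructible (W R' N M' j) := by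
  haveI : Module.FinitePresentation (MvPolynomial (Fin N) R') M' := Module.finitePresentation_of_finite _ _
  have hW : IsOpen (W R' N M' j) := Codepth5.isOpen_pdLE (A := R') (B := MvPolynomial (Fin N) R') j M'
  exact (TopologicalSpace.NoetherianSpace.isCompact _).isConstructible hW

set_option maxHeartbeats 800000 in
theorem isConstructible_preimage_of_flat {A R' : Type u} [CommRing A] [CommRing R'] [Algebra A R'] [IsNoetherianRing R']
    (Mb : Type u) [AddCommGroup Mb] [Module (MvPolynomial (Fin N) A) Mb] [Module A Mb]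
    [IsScalarTower A (MvPolynomial (Fin N) A) Mb] [Module.Finite (MvPolynomial (Fin N) A) Mb]
    [Module.Flat R' (R' ⊗[A] Mb)] (j : ℕ) :
    IsConstructible (PrimeSpectrum.comap (MvPolynomial.map (σ := Fin N) (algebraMap A R')) ⁻¹' W A N Mb j) := by
  letI : Algebra (MvPolynomial (Fin N) A) (MvPolynomial (Fin N) R') := (MvPolynomial.map (algebraMap A R')).toAlgebra
  haveI : IsScalarTower A (MvPolynomial (Fin N) A) (MvPolynomial (Fin N) R') :=
    IsScalarTower.of_algebraMap_eq fun r => (MvPolynomial.map_C (algebraMap A R') r).symm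
  haveI : Algebra.IsPushout A R' (MvPolynomial (Fin N) A) (MvPolynomial (Fin N) R') :=
    AddMonoidAlgebra.instIsPushout
  have h1 := preimage_W (R := A) (N := N) Mb (algebraMap A R') j
  refine Eq.subst (motive := IsConstructible) h1 ?_
  obtain ⟨iM, iT, iF⟩ := exists_flat_module (A := A) (R' := R') (P := MvPolynomial (Fin N) A) (P' := MvPolynomial (Fin N) R') Mb
  haveI : Module.Finite (MvPolynomial (Fin N) R') (MvPolynomial (Fin N) R' ⊗[MvPolynomial (Fin N) A] Mb) := Module.Finite.base_change _ _ Mb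
  exact @isConstructible_W_of_flat N R' _ _ (MvPolynomial (Fin N) R' ⊗[MvPolynomial (Fin N) A] Mb) _ _ iM iT _ iF j

theorem exists_away_W {A : Type u} [CommRing A] [IsDomain A] [IsNoetherianRing A] (Mb : Type u) [AddCommGroup Mb]
    [Module (MvPolynomial (Fin N) A) Mb] [Module.Finite (MvPolynomial (Fin N) A) Mb] (j : ℕ) :
    ∃ s : A, s ≠ 0 ∧ ∀ (R' : Type u) [CommRing R'] [Algebra A R'] [IsLocalization.Away s R'],
      IsConstructible (PrimeSpectrum.comap (MvPolynomial.map (σ := Fin N) (algebraMap A R')) ⁻¹' W A N Mb j) := by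
  letI : Module A Mb := Module.compHom Mb (algebraMap A (MvPolynomial (Fin N) A))
  haveI : IsScalarTower A (MvPolynomial (Fin N) A) Mb := IsScalarTower.of_algebraMap_smul fun _ _ => rfl
  obtain ⟨s, hs, hg⟩ := exists_away_gfree (A := A) (N := N) Mb
  refine ⟨s, hs, fun R' _ _ _ => ?_⟩
  haveI : IsNoetherianRing R' := IsLocalization.isNoetherianRing (Submonoid.powers s) R' inferInstance
  haveI := hg R'
  exact isConstructible_preimage_of_flat Mb j

theorem exists_away_preimage_constructible [Module.Finite (MvPolynomial (Fin N) R) M] (j : ℕ) {A : Type u} [CommRing A]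
    [IsDomain A] [IsNoetherianRing A] (ψ : R →+* A) :
    ∃ s : A, s ≠ 0 ∧ ∀ (R' : Type u) [CommRing R'] [Algebra A R'] [IsLocalization.Away s R'],
      IsConstructible (PrimeSpectrum.comap (MvPolynomial.map (σ := Fin N) ((algebraMap A R').comp ψ)) ⁻¹'
        W R N M j) := by
  letI : Algebra (MvPolynomial (Fin N) R) (MvPolynomial (Fin N) A) := (MvPolynomial.map ψ).toAlgebra
  obtain ⟨s, hs, hg⟩ := exists_away_W (A := A) (N := N) (MvPolynomial (Fin N) A ⊗[MvPolynomial (Fin N) R] M) j
  refine ⟨s, hs, fun R' _ _ _ => ?_⟩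
  have hc : (MvPolynomial.map (σ := Fin N) ((algebraMap A R').comp ψ)) =
      (MvPolynomial.map (algebraMap A R')).comp (MvPolynomial.map ψ) :=
    RingHom.ext fun x => (MvPolynomial.map_map _ _ x).symm
  rw [hc, PrimeSpectrum.comap_comp, Set.preimage_comp, ← preimage_W (N := N) M ψ j]
  exact hg R'

set_option maxHeartbeats 1600000 in
set_option synthInstance.maxHeartbeats 200000 in
theorem exists_stratum [IsNoetherianRing R] [Module.Finite (MvPolynomial (Fin N) R) M] (j : ℕ) (p : Ideal R) [p.IsPrime] :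
    ∃ s ∉ p, IsConstructible (W R N M j ∩ {q | p ≤ bp q.asIdeal ∧ s ∉ bp q.asIdeal}) := by
  obtain ⟨sb, hsb, hg⟩ := exists_away_preimage_constructible (N := N) M j (Ideal.Quotient.mk p)
  obtain ⟨s, rfl⟩ := Ideal.Quotient.mk_surjective sb
  refine ⟨s, fun h => hsb (Ideal.Quotient.eq_zero_iff_mem.2 h), ?_⟩
  let R' := Localization.Away (Ideal.Quotient.mk p s)
  let φ : R →+* R' := (algebraMap (R ⧸ p) R').comp (Ideal.Quotient.mk p)
  haveI : IsNoetherianRing R' := IsLocalization.isNoetherianRing (Submonoid.powers (Ideal.Quotient.mk p s)) R' inferInstance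
  letI aB' : Algebra (MvPolynomial (Fin N) R) (MvPolynomial (Fin N) R') := (MvPolynomial.map φ).toAlgebra
  have hWc := hg R'
  have hfp : (MvPolynomial.map φ : MvPolynomial (Fin N) R →+* MvPolynomial (Fin N) R').FinitePresentation := by
    haveI : Algebra.FiniteType (R ⧸ p) R' := IsLocalization.finiteType_of_monoid_fg (Submonoid.powers (Ideal.Quotient.mk p s)) R'
    have h1 : (algebraMap (R ⧸ p) R').FiniteType := RingHom.finiteType_algebraMap.2 inferInstance
    have hφ : φ.FiniteType := h1.comp (RingHom.FiniteType.of_surjective _ Ideal.Quotient.mk_surjective)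
    exact RingHom.FinitePresentation.of_finiteType.1 (finiteType_map hφ)
  convert PrimeSpectrum.isConstructible_comap_image hfp hWc using 1
  ext q
  constructor
  · rintro ⟨hq, hpq, hsq⟩
    have hu : IsUnit (algebraMap R (bp q.asIdeal).ResidueField s) :=
      isUnit_iff_ne_zero.2 fun h => hsq (Ideal.algebraMap_residueField_eq_zero.1 h)
    let g : R ⧸ p →+* (bp q.asIdeal).ResidueField :=
      Ideal.Quotient.lift p (algebraMap R _) fun r hr => Ideal.algebraMap_residueField_eq_zero.2 (hpq hr)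
    let g' : R' →+* (bp q.asIdeal).ResidueField :=
      IsLocalization.Away.lift (g := g) (Ideal.Quotient.mk p s) (by simpa [g] using hu)
    let μ := Ideal.ResidueField.map (bp q.asIdeal) q.asIdeal (algebraMap R (MvPolynomial (Fin N) R)) rfl
    obtain ⟨q', hq'⟩ := exists_prime_over q.asIdeal φ ⟨μ.comp g', RingHom.ext fun r => by
      show μ (g' (algebraMap (R ⧸ p) R' (Ideal.Quotient.mk p r))) = _
      rw [IsLocalization.Away.lift_eq]
      show μ (Ideal.Quotient.lift p _ _ (Ideal.Quotient.mk p r)) = _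
      rw [Ideal.Quotient.lift_mk, Ideal.ResidueField.map_algebraMap]
      rfl⟩
    have he : PrimeSpectrum.comap (MvPolynomial.map φ) q' = q := PrimeSpectrum.ext hq'
    refine ⟨q', ?_, he⟩
    show PrimeSpectrum.comap (MvPolynomial.map φ) q' ∈ W R N M j
    rw [he]
    exact hq
  · rintro ⟨q', hq', rfl⟩
    refine ⟨hq', fun r hr => ?_, fun hs => ?_⟩
    · show MvPolynomial.map φ (C r) ∈ q'.asIdeal
      rw [map_C]
      show C (algebraMap (R ⧸ p) R' (Ideal.Quotient.mk p r)) ∈ q'.asIdeal
      rw [Ideal.Quotient.eq_zero_iff_mem.2 hr, map_zero, C_0]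
      exact zero_mem _
    · change MvPolynomial.map φ (C s) ∈ q'.asIdeal at hs
      rw [map_C] at hs
      exact q'.isPrime.ne_top (q'.asIdeal.eq_top_of_isUnit_mem hs
        ((IsLocalization.Away.algebraMap_isUnit (S := R') (Ideal.Quotient.mk p s)).map C))

theorem isConstructible_W_noetherian [IsNoetherianRing R] [Module.Finite (MvPolynomial (Fin N) R) M] (j : ℕ) :
    IsConstructible (W R N M j) := by
  suffices h : ∀ I : Ideal R, IsConstructible (W R N M j ∩ {q | I ≤ bp q.asIdeal}) by
    simpa using h ⊥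
  intro I
  induction I using WellFoundedGT.induction with
  | _ I ih =>
    by_cases hI : I = ⊤
    · convert IsConstructible.empty (X := PrimeSpectrum (MvPolynomial (Fin N) R)) using 1
      refine Set.eq_empty_of_forall_notMem fun q hq => ?_
      have h1 : (⊤ : Ideal R) ≤ bp q.asIdeal := hI ▸ hq.2
      exact (Ideal.IsPrime.comap (K := q.asIdeal) (algebraMap R _)).ne_top (top_le_iff.1 h1)
    have hlt : ∀ z ∉ I, I < I ⊔ Ideal.span {z} := fun z hz =>
      lt_of_le_of_ne le_sup_left fun h => hz (h ▸ Ideal.mem_sup_right (Ideal.mem_span_singleton_self z))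
    by_cases hp : I.IsPrime
    · obtain ⟨s, hs, hc⟩ := exists_stratum (N := N) M j I
      convert hc.union (ih _ (hlt s hs)) using 1
      ext q
      simp only [Set.mem_inter_iff, Set.mem_union, Set.mem_ofPred_eq, sup_le_iff, Ideal.span_singleton_le_iff_mem]
      tauto
    · obtain ⟨x, hx, y, hy, hxy⟩ := (Ideal.not_isPrime_iff.1 hp).resolve_left hI
      convert (ih _ (hlt x hx)).union (ih _ (hlt y hy)) using 1
      ext q
      simp only [Set.mem_inter_iff, Set.mem_union, Set.mem_ofPred_eq, sup_le_iff, Ideal.span_singleton_le_iff_mem]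
      refine ⟨fun ⟨h, hle⟩ => ((Ideal.IsPrime.comap (K := q.asIdeal) (algebraMap R _)).mem_or_mem (hle hxy)).imp
        (fun hm => ⟨h, hle, hm⟩) fun hm => ⟨h, hle, hm⟩, ?_⟩
      rintro (⟨h, hle, -⟩ | ⟨h, hle, -⟩) <;> exact ⟨h, hle⟩

/-- The loci of fibre projective dimension are constructible. -/
theorem isConstructible_W [Module.FinitePresentation (MvPolynomial (Fin N) R) M] (j : ℕ) :
    IsConstructible (W R N M j) := by
  classical
  obtain ⟨b, π, hπ⟩ := Module.Finite.exists_fin' (MvPolynomial (Fin N) R) M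
  obtain ⟨a, ρ, hρ⟩ : ∃ (a : ℕ) (ρ : (Fin a → MvPolynomial (Fin N) R) →ₗ[MvPolynomial (Fin N) R] (Fin b → MvPolynomial (Fin N) R)),
      LinearMap.range ρ = LinearMap.ker π := by
    obtain ⟨t, ht⟩ := Module.FinitePresentation.fg_ker π hπ
    refine ⟨t.card, Fintype.linearCombination _ fun i => (t.equivFin.symm i : Fin b → MvPolynomial (Fin N) R), ?_⟩
    rw [Fintype.range_linearCombination, ← ht]
    congr 1
    exact Set.ext fun x => ⟨fun ⟨i, hi⟩ => hi ▸ (t.equivFin.symm i).2, fun hx => ⟨t.equivFin ⟨x, hx⟩, by simp⟩⟩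
  let R₀ : Subalgebra ℤ R := Algebra.adjoin ℤ
    (⋃ (i : Fin a) (k : Fin b), ((ρ (Pi.single i 1) k).coeffs : Set R))
  haveI : Algebra.FiniteType ℤ R₀ :=
    (Subalgebra.fg_iff_finiteType _).1 (Subalgebra.fg_def.2 ⟨_, Set.finite_iUnion fun _ => Set.finite_iUnion fun _ => Finset.finite_toSet _, rfl⟩)
  haveI : IsNoetherianRing R₀ := Algebra.FiniteType.isNoetherianRing ℤ R₀
  let φ : (R₀ : Type u) →+* R := R₀.val.toRingHom
  letI aB : Algebra (MvPolynomial (Fin N) R₀) (MvPolynomial (Fin N) R) := (MvPolynomial.map φ).toAlgebra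
  have hlift : ∀ i k, ∃ c : MvPolynomial (Fin N) R₀, MvPolynomial.map φ c = ρ (Pi.single i 1) k := by
    intro i k
    show ρ (Pi.single i 1) k ∈ Set.range (MvPolynomial.map φ)
    rw [MvPolynomial.mem_range_map_iff_coeffs_subset]
    intro z hz
    exact ⟨⟨z, Algebra.subset_adjoin (Set.mem_iUnion.2 ⟨i, Set.mem_iUnion.2 ⟨k, hz⟩⟩)⟩, rfl⟩
  choose c hc using hlift
  let ρ₀ : (Fin a → MvPolynomial (Fin N) R₀) →ₗ[MvPolynomial (Fin N) R₀] (Fin b → MvPolynomial (Fin N) R₀) :=
    Fintype.linearCombination _ c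
  let M₀ : Type u := (Fin b → MvPolynomial (Fin N) R₀) ⧸ LinearMap.range ρ₀
  suffices h : ∀ (_ : IsConstructible (W R₀ N M₀ j)), IsConstructible (W R N M j) from
    h (isConstructible_W_noetherian M₀ j)
  intro h₀
  have hM : Nonempty (MvPolynomial (Fin N) R ⊗[MvPolynomial (Fin N) R₀] M₀ ≃ₗ[MvPolynomial (Fin N) R] M) :=
    exists_presentation_equiv π hπ ρ hρ c hc
  obtain ⟨e⟩ := hM
  have hW : W R N M j = PrimeSpectrum.comap (MvPolynomial.map φ) ⁻¹' W R₀ N M₀ j := by
    rw [← preimage_W M₀ φ j]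
    ext q
    exact ⟨fun h => pdLE_of_equiv (LinearEquiv.baseChange (MvPolynomial (Fin N) R) _ _ _ e.symm) h,
      fun h => pdLE_of_equiv (LinearEquiv.baseChange (MvPolynomial (Fin N) R) _ _ _ e) h⟩
  rw [hW]
  exact ProConsLib.isConstructible_preimage (WLocalLib.isSpectralMap_comap _) h₀

end Groth.Agent.RectCons
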