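import Groth.Agent.Codepth5.SkPoly
import Groth.Agent.RegLoc6.Descent
import Groth.Agent.KRRReg.RegImm
import Mathlib.RingTheory.TensorProduct.MvPolynomial
import Mathlib.RingTheory.RingHom.Flat

/-!
# Projective dimension of fibres is invariant under change of the base ring
-/

set_option autoImplicit false
set_option linter.style.haveILetI false
set_option backward.isDefEq.respectTransparency false
set_option backward.isDefEq.respectTransparency.types false

universe u

open IsLocalRing TensorProduct MvPolynomial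
open Groth.Agent.RegLoc6

attribute [local instance] MvPolynomial.algebraMvPolynomial

noncomputable section

namespace Groth.Agent.RectCons

variable {B : Type u} [CommRing B] (M : Type u) [AddCommGroup M] [Module B M]

/-- Projective dimension along a flat map of algebras. -/
theorem pdLE_of_flat {O O' : Type u} [CommRing O] [CommRing O'] [Algebra B O] [Algebra B O'] (θ : O →ₐ[B] O')
    (hθ : θ.toRingHom.Flat) (j : ℕ) (h : PdLE O j (O ⊗[B] M)) : PdLE O' j (O' ⊗[B] M) := by
  letI : Algebra O O' := θ.toRingHom.toAlgebra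
  haveI : IsScalarTower B O O' := IsScalarTower.of_algebraMap_eq fun b => (θ.commutes b).symm
  haveI : Module.Flat O O' := hθ
  exact pdLE_of_equiv (AlgebraTensorModule.cancelBaseChange B O O' O' M) (KRRReg.pdLE_baseChange O' j _ h)

theorem pdLE_congr {O O' : Type u} [CommRing O] [CommRing O'] [Algebra B O] [Algebra B O'] (e : O ≃ₐ[B] O') (j : ℕ) :
    PdLE O j (O ⊗[B] M) ↔ PdLE O' j (O' ⊗[B] M) :=
  ⟨pdLE_of_flat M e.toAlgHom (RingHom.Flat.of_bijective e.bijective) j,
    pdLE_of_flat M e.symm.toAlgHom (RingHom.Flat.of_bijective e.symm.bijective) j⟩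

variable [Module.Finite B M]

theorem pdLE_iff_of_flat {O O' : Type u} [CommRing O] [CommRing O'] [IsLocalRing O] [IsNoetherianRing O] [IsLocalRing O']
    [Algebra B O] [Algebra B O'] (θ : O →ₐ[B] O') (hθ : θ.toRingHom.Flat) [hl : IsLocalHom θ.toRingHom] (j : ℕ) :
    PdLE O j (O ⊗[B] M) ↔ PdLE O' j (O' ⊗[B] M) := by
  refine ⟨pdLE_of_flat M θ hθ j, fun h => ?_⟩
  letI : Algebra O O' := θ.toRingHom.toAlgebra
  haveI : IsScalarTower B O O' := IsScalarTower.of_algebraMap_eq fun b => (θ.commutes b).symm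
  haveI : Module.Flat O O' := hθ
  haveI : IsLocalHom (algebraMap O O') := hl
  haveI : Module.FaithfullyFlat O O' := Module.FaithfullyFlat.of_flat_of_isLocalHom
  haveI : Module.Finite O (O ⊗[B] M) := Module.Finite.base_change B O M
  exact pdLE_of_baseChange j _ (pdLE_of_equiv (AlgebraTensorModule.cancelBaseChange B O O' O' M).symm h)

/-- Transfer along a commutative square of algebras. -/
theorem pdLE_square {B' O O' L L' : Type u} [CommRing B'] [CommRing O] [CommRing O'] [CommRing L] [CommRing L']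
    [Algebra B B'] [Algebra B O] [Algebra B L] [Algebra B' O'] [Algebra B' L'] [IsLocalRing L] [IsNoetherianRing L]
    [IsLocalRing L'] (e : O ≃ₐ[B] L) (e' : O' ≃ₐ[B'] L') (θ : L →+* L') (hθ : θ.Flat) [hl : IsLocalHom θ]
    (hc : ∀ b, θ (algebraMap B L b) = algebraMap B' L' (algebraMap B B' b)) (j : ℕ) :
    PdLE O' j (O' ⊗[B'] (B' ⊗[B] M)) ↔ PdLE O j (O ⊗[B] M) := by
  letI : Algebra B L' := ((algebraMap B' L').comp (algebraMap B B')).toAlgebra
  haveI : IsScalarTower B B' L' := IsScalarTower.of_algebraMap_eq fun _ => rfl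
  let θ' : L →ₐ[B] L' := { toRingHom := θ, commutes' := hc }
  haveI : IsLocalHom θ'.toRingHom := hl
  rw [pdLE_congr (B' ⊗[B] M) e' j, pdLE_congr M e j, pdLE_iff_of_flat M θ' hθ j]
  let E := AlgebraTensorModule.cancelBaseChange B B' L' L' M
  exact ⟨fun h => pdLE_of_equiv E h, fun h => pdLE_of_equiv E.symm h⟩

section Poly

variable {R : Type u} [CommRing R] {N : ℕ}

/-- The base prime. -/
abbrev bp (q : Ideal (MvPolynomial (Fin N) R)) : Ideal R := q.comap (algebraMap R (MvPolynomial (Fin N) R))

/-- The fibre ring of affine space. -/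
abbrev toFibre (p : Ideal R) [p.IsPrime] : MvPolynomial (Fin N) R →+* MvPolynomial (Fin N) p.ResidueField :=
  MvPolynomial.map (algebraMap R p.ResidueField)

theorem exists_clear (p : Ideal R) [p.IsPrime] (f : MvPolynomial (Fin N) p.ResidueField) :
    ∃ (s : R) (b : MvPolynomial (Fin N) R), s ∉ p ∧ MvPolynomial.C (algebraMap R p.ResidueField s) * f = toFibre p b := by
  induction f using MvPolynomial.induction_on with
  | C a =>
    obtain ⟨r, t, rfl⟩ : ∃ (r : R) (t : p.primeCompl), algebraMap R p.ResidueField r / algebraMap R p.ResidueField t = a := by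
      obtain ⟨x, rfl⟩ := IsLocalRing.residue_surjective a
      obtain ⟨r, t, rfl⟩ := IsLocalization.exists_mk'_eq p.primeCompl x
      refine ⟨r, t, ?_⟩
      have ht : algebraMap R p.ResidueField t ≠ 0 := fun h => t.2 (Ideal.algebraMap_residueField_eq_zero.1 h)
      rw [div_eq_iff ht, IsScalarTower.algebraMap_apply R (Localization.AtPrime p) p.ResidueField,
        IsScalarTower.algebraMap_apply R (Localization.AtPrime p) p.ResidueField]
      show algebraMap (Localization.AtPrime p) _ _ = algebraMap (Localization.AtPrime p) _ _ * _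
      rw [← map_mul, IsLocalization.mk'_spec]
    refine ⟨t, C r, t.2, ?_⟩
    have ht : algebraMap R p.ResidueField t ≠ 0 := fun h => t.2 (Ideal.algebraMap_residueField_eq_zero.1 h)
    rw [toFibre, map_C, ← C_mul, mul_div_cancel₀ _ ht]
  | add f g hf hg =>
    obtain ⟨s, b, hs, hb⟩ := hf
    obtain ⟨t, c, ht, hc⟩ := hg
    refine ⟨s * t, C t * b + C s * c, fun h => (‹p.IsPrime›.mem_or_mem h).elim hs ht, ?_⟩
    simp only [map_add, map_mul, ← hb, ← hc, toFibre, map_C]
    ring
  | mul_X f i hf =>
    obtain ⟨s, b, hs, hb⟩ := hf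
    exact ⟨s, b * X i, hs, by rw [map_mul, ← hb, toFibre, map_X, mul_assoc]⟩

theorem exists_prime_over (q : Ideal (MvPolynomial (Fin N) R)) [q.IsPrime] {R' : Type u} [CommRing R'] (φ : R →+* R')
    (h : ∃ ψ : R' →+* q.ResidueField, ψ.comp φ = (algebraMap (MvPolynomial (Fin N) R) q.ResidueField).comp MvPolynomial.C) :
    ∃ Q : PrimeSpectrum (MvPolynomial (Fin N) R'), Q.asIdeal.comap (MvPolynomial.map φ) = q := by
  obtain ⟨ψ, hψ⟩ := h
  let g : MvPolynomial (Fin N) R' →+* q.ResidueField :=
    eval₂Hom ψ fun i => algebraMap (MvPolynomial (Fin N) R) q.ResidueField (X i)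
  refine ⟨⟨RingHom.ker g, RingHom.ker_isPrime g⟩, ?_⟩
  have hg : g.comp (MvPolynomial.map φ) = algebraMap (MvPolynomial (Fin N) R) q.ResidueField := by
    refine MvPolynomial.ringHom_ext (fun r => ?_) (fun i => by simp [g])
    have := RingHom.congr_fun hψ r
    simpa [g] using this
  show (RingHom.ker g).comap _ = q
  rw [RingHom.comap_ker, hg]
  ext b
  exact Ideal.algebraMap_residueField_eq_zero

theorem exists_fibre_prime (q : Ideal (MvPolynomial (Fin N) R)) [q.IsPrime] :
    ∃ Q : PrimeSpectrum (MvPolynomial (Fin N) (bp q).ResidueField),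
      Q.asIdeal.comap (toFibre (bp q)) = q :=
  exists_prime_over q _ ⟨Ideal.ResidueField.map (bp q) q (algebraMap R (MvPolynomial (Fin N) R)) rfl,
    RingHom.ext fun r => Ideal.ResidueField.map_algebraMap _ _ _ _ r⟩

/-- The local ring of the fibre is a local ring of affine space over the residue field. -/
theorem exists_loc_equiv (q : Ideal (MvPolynomial (Fin N) R)) [q.IsPrime] (p : Ideal R) [p.IsPrime]
    (Q : Ideal (MvPolynomial (Fin N) p.ResidueField)) [Q.IsPrime]
    (hQ : Q.comap (toFibre p) = q) :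
    p = bp q ∧
    letI : Algebra (MvPolynomial (Fin N) R) (Localization.AtPrime Q) :=
      ((algebraMap _ (Localization.AtPrime Q)).comp (toFibre p)).toAlgebra
    Nonempty (EGA4.FibLocRing R (MvPolynomial (Fin N) R) q ≃ₐ[MvPolynomial (Fin N) R] Localization.AtPrime Q) := by
  have hp : p = bp q := by
    ext r
    rw [bp, Ideal.mem_comap, ← hQ, Ideal.mem_comap]
    show _ ↔ toFibre p (C r) ∈ Q
    rw [toFibre, map_C]
    refine ⟨fun h => ?_, fun h => ?_⟩
    · rw [Ideal.algebraMap_residueField_eq_zero.2 h, C_0]; exact zero_mem _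
    · by_contra hr
      refine ‹Q.IsPrime›.ne_top (Q.eq_top_of_isUnit_mem h ?_)
      exact (isUnit_iff_ne_zero.2 fun h0 => hr (Ideal.algebraMap_residueField_eq_zero.1 h0)).map C
  refine ⟨hp, ?_⟩
  letI : Algebra (MvPolynomial (Fin N) R) (Localization.AtPrime Q) :=
    ((algebraMap _ (Localization.AtPrime Q)).comp (toFibre p)).toAlgebra
  have hu : ∀ y : q.primeCompl, IsUnit (algebraMap (MvPolynomial (Fin N) R) (Localization.AtPrime Q) y) := fun y =>
    (IsLocalization.AtPrime.isUnit_to_map_iff (Localization.AtPrime Q) Q (toFibre p y)).2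
      fun h => y.2 (hQ ▸ (show (y : MvPolynomial (Fin N) R) ∈ Q.comap (toFibre p) from h))
  let f₁ : Localization.AtPrime q →ₐ[MvPolynomial (Fin N) R] Localization.AtPrime Q :=
    IsLocalization.liftAlgHom (M := q.primeCompl) (f := Algebra.ofId _ _) hu
  let I : Ideal (Localization.AtPrime q) := (bp q).map (algebraMap R (Localization.AtPrime q))
  have hI : ∀ a ∈ I, f₁ a = 0 := by
    refine fun a ha => (Submodule.span_le (p := RingHom.ker f₁.toRingHom)).2 ?_ ha
    rintro _ ⟨r, hr, rfl⟩
    show f₁ (algebraMap R _ r) = 0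
    rw [IsScalarTower.algebraMap_apply R (MvPolynomial (Fin N) R) (Localization.AtPrime q), AlgHom.commutes]
    show algebraMap _ (Localization.AtPrime Q) (toFibre (N := N) p (MvPolynomial.C r)) = 0
    rw [toFibre, map_C, Ideal.algebraMap_residueField_eq_zero.2 (hp ▸ hr), C_0, map_zero]
  let f₂ : EGA4.FibLocRing R (MvPolynomial (Fin N) R) q →ₐ[MvPolynomial (Fin N) R] Localization.AtPrime Q :=
    Ideal.Quotient.liftₐ I f₁ hI
  refine ⟨AlgEquiv.ofBijective f₂ ⟨(injective_iff_map_eq_zero f₂).2 fun z hz => ?_, fun z => ?_⟩⟩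
  · obtain ⟨z, rfl⟩ := Ideal.Quotient.mk_surjective z
    obtain ⟨b, t, rfl⟩ := IsLocalization.exists_mk'_eq q.primeCompl z
    have h0 : f₁ (IsLocalization.mk' _ b t) = 0 := hz
    have h1 : algebraMap _ (Localization.AtPrime Q) (toFibre p b) = 0 := by
      have := congrArg f₁ (IsLocalization.mk'_spec (Localization.AtPrime q) b t)
      rw [map_mul, h0, zero_mul, AlgHom.commutes] at this
      exact this.symm
    have h2 : toFibre p b = 0 :=
      IsLocalization.injective (Localization.AtPrime Q) Q.primeCompl_le_nonZeroDivisors (h1.trans (map_zero _).symm)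
    rw [Ideal.Quotient.eq_zero_iff_mem, IsLocalization.mk'_mem_iff]
    rw [IsScalarTower.algebraMap_eq R (MvPolynomial (Fin N) R) (Localization.AtPrime q), ← Ideal.map_map]
    refine Ideal.mem_map_of_mem _ ?_
    rw [MvPolynomial.algebraMap_eq, MvPolynomial.mem_map_C_iff]
    intro d
    have := congrArg (MvPolynomial.coeff d) h2
    rw [toFibre, coeff_map, coeff_zero] at this
    show coeff d b ∈ bp q
    rw [← hp]
    exact Ideal.algebraMap_residueField_eq_zero.1 this
  · obtain ⟨g, h, rfl⟩ := IsLocalization.exists_mk'_eq Q.primeCompl z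
    obtain ⟨s, b, hs, hb⟩ := exists_clear p g
    obtain ⟨t, c, ht, hc⟩ := exists_clear p (h : MvPolynomial (Fin N) p.ResidueField)
    have hC : ∀ a, a ∉ p → (C (algebraMap R p.ResidueField a) : MvPolynomial (Fin N) p.ResidueField) ∉ Q := fun a ha hm =>
      ‹Q.IsPrime›.ne_top (Q.eq_top_of_isUnit_mem hm
        ((isUnit_iff_ne_zero.2 fun h0 => ha (Ideal.algebraMap_residueField_eq_zero.1 h0)).map C))
    have hmem : C s * c ∉ q := by
      rw [← hQ, Ideal.mem_comap, map_mul, ← hc, toFibre, map_C]
      exact fun hm => (‹Q.IsPrime›.mem_or_mem hm).elim (hC s hs) fun hm => (‹Q.IsPrime›.mem_or_mem hm).elim (hC t ht) h.2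
    refine ⟨Ideal.Quotient.mk I (IsLocalization.mk' _ (C t * b) (⟨C s * c, hmem⟩ : q.primeCompl)), ?_⟩
    show f₁ _ = _
    rw [IsLocalization.eq_mk'_iff_mul_eq]
    refine (hu ⟨C s * c, hmem⟩).mul_left_injective ?_
    have key : f₁ (IsLocalization.mk' _ (C t * b) (⟨C s * c, hmem⟩ : q.primeCompl)) *
        algebraMap (MvPolynomial (Fin N) R) (Localization.AtPrime Q) (C s * c) =
          algebraMap (MvPolynomial (Fin N) R) (Localization.AtPrime Q) (C t * b) := by
      rw [← AlgHom.commutes f₁ (C s * c), ← map_mul f₁, IsLocalization.mk'_spec, AlgHom.commutes]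
    refine ((mul_right_comm _ _ _).trans (congrArg (· * _) key)).trans ?_
    show algebraMap _ (Localization.AtPrime Q) (toFibre p (C t * b)) * algebraMap _ _ (h : MvPolynomial (Fin N) p.ResidueField) =
      algebraMap _ _ g * algebraMap _ _ (toFibre p (C s * c))
    rw [← map_mul, ← map_mul]
    congr 1
    rw [map_mul, map_mul, ← hb, ← hc, toFibre, map_C, map_C]
    ring

theorem flat_map_field {k k' : Type u} [Field k] [Field k'] (κ : k →+* k') :
    (MvPolynomial.map κ : MvPolynomial (Fin N) k →+* MvPolynomial (Fin N) k').Flat := by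
  letI : Algebra k k' := κ.toAlgebra
  show Module.Flat (MvPolynomial (Fin N) k) (MvPolynomial (Fin N) k')
  exact Module.Flat.isBaseChange k (MvPolynomial (Fin N) k) k' _
    (Algebra.IsPushout.out (R := k) (S := MvPolynomial (Fin N) k) (R' := k') (S' := MvPolynomial (Fin N) k'))

/-- The projective dimension of a fibre is unchanged by base change. -/
theorem pdLE_fibre_baseChange {R' : Type u} [CommRing R'] (φ : R →+* R') (M : Type u) [AddCommGroup M]
    [Module (MvPolynomial (Fin N) R) M] [Module.Finite (MvPolynomial (Fin N) R) M]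
    (q' : PrimeSpectrum (MvPolynomial (Fin N) R')) (j : ℕ) :
    letI : Algebra (MvPolynomial (Fin N) R) (MvPolynomial (Fin N) R') := (MvPolynomial.map φ).toAlgebra
    PdLE (EGA4.FibLocRing R' (MvPolynomial (Fin N) R') q'.asIdeal) j
        (EGA4.FibLocRing R' (MvPolynomial (Fin N) R') q'.asIdeal ⊗[MvPolynomial (Fin N) R'] (MvPolynomial (Fin N) R' ⊗[MvPolynomial (Fin N) R] M)) ↔
      PdLE (EGA4.FibLocRing R (MvPolynomial (Fin N) R) (q'.asIdeal.comap (MvPolynomial.map φ))) j
        (EGA4.FibLocRing R (MvPolynomial (Fin N) R) (q'.asIdeal.comap (MvPolynomial.map φ)) ⊗[MvPolynomial (Fin N) R] M) := by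
  letI : Algebra (MvPolynomial (Fin N) R) (MvPolynomial (Fin N) R') := (MvPolynomial.map φ).toAlgebra
  haveI : Module.Finite (MvPolynomial (Fin N) R') (MvPolynomial (Fin N) R' ⊗[MvPolynomial (Fin N) R] M) :=
    Module.Finite.base_change _ _ M
  let q := q'.asIdeal.comap (MvPolynomial.map φ)
  obtain ⟨Q', hQ'⟩ := exists_fibre_prime q'.asIdeal
  let p' := bp q'.asIdeal
  let p := bp q
  have hpp : p = p'.comap φ := by
    ext r
    simp only [p, p', q, bp, Ideal.mem_comap, MvPolynomial.algebraMap_eq, map_C]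
  let κ : p.ResidueField →+* p'.ResidueField := Ideal.ResidueField.map p p' φ hpp
  let Φ : MvPolynomial (Fin N) p.ResidueField →+* MvPolynomial (Fin N) p'.ResidueField := MvPolynomial.map κ
  have hΦ : Φ.comp (toFibre p) = (toFibre p').comp (MvPolynomial.map φ) := by
    refine MvPolynomial.ringHom_ext (fun r => ?_) (fun i => by simp [Φ, toFibre])
    simp [Φ, toFibre, κ, Ideal.ResidueField.map_algebraMap]
  have hQ : (Q'.asIdeal.comap Φ).comap (toFibre p) = q := by
    rw [Ideal.comap_comap, hΦ, ← Ideal.comap_comap, hQ']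
  obtain ⟨-, ⟨e'⟩⟩ := exists_loc_equiv q'.asIdeal p' Q'.asIdeal hQ'
  obtain ⟨-, ⟨e⟩⟩ := exists_loc_equiv q p (Q'.asIdeal.comap Φ) hQ
  letI aQ' : Algebra (MvPolynomial (Fin N) R') (Localization.AtPrime Q'.asIdeal) :=
    ((algebraMap _ (Localization.AtPrime Q'.asIdeal)).comp (toFibre p')).toAlgebra
  letI aQ : Algebra (MvPolynomial (Fin N) R) (Localization.AtPrime (Q'.asIdeal.comap Φ)) :=
    ((algebraMap _ (Localization.AtPrime (Q'.asIdeal.comap Φ))).comp (toFibre p)).toAlgebra
  refine pdLE_square M e e' (Localization.localRingHom (Q'.asIdeal.comap Φ) Q'.asIdeal Φ rfl)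
    (RingHom.Flat.localRingHom (flat_map_field κ) _ _ rfl) (hl := Localization.isLocalHom_localRingHom _ _ _ rfl)
    (fun b => ?_) j
  show Localization.localRingHom _ _ Φ rfl (algebraMap _ _ (toFibre p b)) = algebraMap _ _ (toFibre p' (MvPolynomial.map φ b))
  rw [Localization.localRingHom_to_map]
  exact congrArg _ (RingHom.congr_fun hΦ b)

end Poly

end Groth.Agent.RectCons
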