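import Groth.Agent.RectCons.Inv
import Groth.Agent.S2677
import Groth.Agent.QCoh.Stalk
import Groth.Agent.QCoh.Support
import Groth.Agent.RegLoc6.Descent
import Groth.Agent.LC.ExtDim
import Groth.Agent.DimFormula.Jacobson

/-!
# Rectified depth on regular biequidimensional schemes
-/

set_option autoImplicit false
set_option linter.style.haveILetI false
set_option backward.isDefEq.respectTransparency false
set_option backward.isDefEq.respectTransparency.types false

universe u

open CategoryTheory AlgebraicGeometry IsLocalRing TensorProduct Topology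
open Groth.Agent.RegLoc6

noncomputable section

namespace Groth.Agent.RectCons

/-- Auslander–Buchsbaum over a regular local ring. -/
theorem exists_ab (R : Type u) [CommRing R] [IsRegularLocalRing R] (M : Type u) [AddCommGroup M] [Module R M]
    [Module.Finite R M] [Nontrivial M] :
    ∃ d a : ℕ, a ≤ d ∧ ringKrullDim R = d ∧ LocCoh.depth R M = (a : ℕ∞) ∧ (∀ j, PdLE R j M ↔ d ≤ a + j) ∧
      projectiveDimension (ModuleCat.of R M) = ((d - a : ℕ) : WithBot ℕ∞) := by
  haveI := LC.gorenstein_of_isRegularLocalRing (R := R)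
  haveI := LC.isCohenMacaulayLocalRing_of_gorenstein (R := R)
  obtain ⟨d, hd⟩ : ∃ d : ℕ, ringKrullDim R = d := by
    haveI : Nontrivial R := inferInstance
    obtain ⟨D, hD⟩ := LC.exists_supportDim_eq_nat (R := R) (M := R)
    exact ⟨D, by rw [← Module.supportDim_self_eq_ringKrullDim]; exact hD⟩
  obtain ⟨a, ha⟩ := LC.exists_depth_eq_nat (R := R) M
  have had : a ≤ d := by
    have := (LC.depth_le_supportDim (R := R) M).trans ((Module.supportDim_le_ringKrullDim R M).trans_eq hd)
    rw [ha] at this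
    exact_mod_cast this
  have hdR : LocCoh.depth R R = (d : ℕ∞) := by
    have := LocCoh.IsCohenMacaulayLocalRing.supportDim_eq_depth (R := R)
    rw [Module.supportDim_self_eq_ringKrullDim, hd] at this
    exact_mod_cast this.symm
  have hiff : ∀ j, PdLE R j M ↔ d ≤ a + j := fun j => ⟨fun h => by
    have h2 := CplFib6.depth_add_ge R _ j h
    rw [hdR, ha] at h2
    exact_mod_cast h2, fun h => LC.pdLE_of_le_depth R d hd _ _ (by rw [ha]; exact_mod_cast h)⟩
  refine ⟨d, a, had, hd, ha, hiff, le_antisymm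
    ((projectiveDimension_le_iff (ModuleCat.of R M) (d - a)).2 ((hiff _).2 (by omega))) ?_⟩
  by_contra h
  rcases Nat.eq_zero_or_pos (d - a) with h0 | h0
  · have : projectiveDimension (ModuleCat.of R M) ≠ ⊥ := by
      rw [Ne, projectiveDimension_eq_bot_iff, ModuleCat.isZero_of_iff_subsingleton]
      exact not_subsingleton M
    rw [h0, Nat.cast_zero, not_le] at h
    generalize projectiveDimension (ModuleCat.of R M) = p at this h
    induction p with
    | bot => exact this rfl
    | coe p => exact (WithBot.coe_lt_coe.1 h).not_ge bot_le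
  · obtain ⟨k, hk⟩ : ∃ k, d - a = k + 1 := ⟨d - a - 1, by omega⟩
    rw [hk, not_le] at h
    have h' : projectiveDimension (ModuleCat.of R M) < ((k + 1 : ℕ) : WithBot ℕ∞) := h
    rw [projectiveDimension_lt_iff] at h'
    have h2 : d ≤ a + k := (hiff k).1 h'
    omega

section Scheme

variable {X : Scheme.{u}} (F : X.Modules)

theorem pdLE_stalk_iff (hF : Coh.IsCoh F) {U : X.Opens} (hU : IsAffineOpen U) {x : X} (hx : x ∈ U) (j : ℕ) :
    PdLE (X.presheaf.stalk x) j (F.presheaf.stalk x) ↔
      PdLE (Localization.AtPrime (hU.primeIdealOf ⟨x, hx⟩).asIdeal) j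
        (LocalizedModule (hU.primeIdealOf ⟨x, hx⟩).asIdeal.primeCompl Γ(F, U)) := by
  letI := QCoh.stalkAlg (X := X) hx
  letI := QCoh.stalkModule F hx
  haveI := QCoh.isScalarTower_stalk F hx
  haveI := QCoh.isLocalization_stalk' hU hx
  haveI := QCoh.isLocalizedModule_germLin hF.1 hU hx
  haveI := QCoh.finite_sections hF hU
  let S := (hU.primeIdealOf ⟨x, hx⟩).asIdeal.primeCompl
  have h1 := (IsLocalizedModule.isBaseChange S (X.presheaf.stalk x) (QCoh.germLin F hx)).equiv
  have h2 := (IsLocalizedModule.isBaseChange S (Localization S) (LocalizedModule.mkLinearMap S Γ(F, U))).equiv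
  have h3 := pdLE_congr Γ(F, U) (IsLocalization.algEquiv S (X.presheaf.stalk x) (Localization S)) j
  exact ⟨fun h => pdLE_of_equiv h2 (h3.1 (pdLE_of_equiv h1.symm h)),
    fun h => pdLE_of_equiv h1 (h3.2 (pdLE_of_equiv h2.symm h))⟩

theorem isOpen_pdLE_stalk [IsLocallyNoetherian X] (hF : Coh.IsCoh F) (j : ℕ) :
    IsOpen {x : X | PdLE (X.presheaf.stalk x) j (F.presheaf.stalk x)} := by
  rw [isOpen_iff_forall_mem_open]
  intro x hx
  obtain ⟨U, hU, hxU, -⟩ := exists_isAffineOpen_mem_and_subset (U := (⊤ : X.Opens)) (x := x) trivial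
  haveI := QCoh.finite_sections hF hU
  haveI := IsLocallyNoetherian.component_noetherian (X := X) ⟨U, hU⟩
  refine ⟨hU.fromSpec '' {q | PdLE (Localization.AtPrime q.asIdeal) j (LocalizedModule q.asIdeal.primeCompl Γ(F, U))},
    ?_, hU.fromSpec.isOpenEmbedding.isOpenMap _ (Groth.Agent.S2677.isOpen_pdLE _ j _),
    ⟨_, (pdLE_stalk_iff F hF hU hxU j).1 hx, hU.fromSpec_primeIdealOf ⟨x, hxU⟩⟩⟩
  rintro _ ⟨q, hq, rfl⟩
  obtain ⟨y, hy, rfl⟩ := QCoh.exists_point hU q
  rw [hU.fromSpec_primeIdealOf ⟨y, hy⟩]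
  exact (pdLE_stalk_iff F hF hU hy j).2 hq

/-- All generizations of a regular point lie on one component. -/
theorem topologicalKrullDim_component_gen [IsLocallyNoetherian X] {x : X}
    [IsRegularLocalRing (X.presheaf.stalk x)] {T : Set X} (hT : T ∈ irreducibleComponents (X : Type u)) (hxT : x ∈ T) :
    topologicalKrullDim ↥{t : X | t ∈ T ∧ t ⤳ x} = ringKrullDim (X.presheaf.stalk x) := by
  haveI : IsDomain (X.presheaf.stalk x) := RegLoc6.isDomain_of_isRegularLocalRing _
  have hTc := isClosed_of_mem_irreducibleComponents T hT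
  obtain ⟨η, hη⟩ := QuasiSober.sober hT.1 hTc
  have hrange : Set.range (X.fromSpecStalk x) = {y | y ⤳ x} := Scheme.range_fromSpecStalk
  have hall : ∀ t, t ⤳ x → t ∈ T := fun t ht => by
    obtain ⟨q, rfl⟩ : t ∈ Set.range (X.fromSpecStalk x) := hrange.ge ht
    obtain ⟨r, rfl⟩ : η ∈ Set.range (X.fromSpecStalk x) := hrange.ge (hη.specializes hxT)
    let o : PrimeSpectrum (X.presheaf.stalk x) := ⟨⊥, Ideal.isPrime_bot⟩
    have ho : ∀ s, (X.fromSpecStalk x) o ⤳ (X.fromSpecStalk x) s := fun s =>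
      ((PrimeSpectrum.le_iff_specializes o s).1 bot_le).map (X.fromSpecStalk x).continuous
    have h1 : T ⊆ closure {(X.fromSpecStalk x) o} := by
      rw [← hη]
      exact closure_minimal (Set.singleton_subset_iff.2 (ho r).mem_closure) isClosed_closure
    exact hT.2 isIrreducible_singleton.closure h1 (ho q).mem_closure
  rw [show {t : X | t ∈ T ∧ t ⤳ x} = Set.range (X.fromSpecStalk x) from
    hrange ▸ Set.ext fun t => ⟨fun h => h.2, fun h => ⟨hall t h, h⟩⟩,
    ← PrimeSpectrum.topologicalKrullDim_eq_ringKrullDim]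
  exact (IsHomeomorph.topologicalKrullDim_eq _ (X.fromSpecStalk x).isEmbedding.toHomeomorph.isHomeomorph).symm

/-- The rectified depth is the dimension minus the projective dimension. -/
theorem exists_invariants_regular [IsLocallyNoetherian X]
    (hreg : ∀ x : X, IsRegularLocalRing ↑(X.presheaf.stalk x))
    (hcomp : ∀ C ∈ irreducibleComponents (X : Type u), topologicalKrullDim ↥C = topologicalKrullDim X)
    (hchain : ∀ (y : X) (T : Set X), IsClosed T → IsIrreducible T → y ∈ T →
      topologicalKrullDim ↥T = topologicalKrullDim ↥(closure ({y} : Set X)) + topologicalKrullDim ↥{t : X | t ∈ T ∧ t ⤳ y})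
    (hF : Coh.IsCoh F) (x : X) (hx : x ∈ CohB1.support F) :
    ∃ d a : ℕ, a ≤ d ∧ LocCoh.depth ↑(X.presheaf.stalk x) ↑(F.presheaf.stalk x) = (a : ℕ∞) ∧
      (∀ j, PdLE (X.presheaf.stalk x) j (F.presheaf.stalk x) ↔ d ≤ a + j) ∧
      projectiveDimension (ModuleCat.of ↑(X.presheaf.stalk x) ↑(F.presheaf.stalk x)) = ((d - a : ℕ) : WithBot ℕ∞) ∧
      topologicalKrullDim X = topologicalKrullDim ↥(closure ({x} : Set X)) + (d : WithBot ℕ∞) := by
  haveI := hreg x
  haveI : Nontrivial (F.presheaf.stalk x) := not_subsingleton_iff_nontrivial.1 hx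
  haveI := QCoh.finite_stalk_of_isFT hF.1 hF.2 x
  obtain ⟨d, a, had, hd, ha, hiff, hpd⟩ := exists_ab (X.presheaf.stalk x) (F.presheaf.stalk x)
  refine ⟨d, a, had, ha, hiff, hpd, ?_⟩
  have hT := irreducibleComponent_mem_irreducibleComponents x
  rw [← hcomp _ hT, hchain x _ isClosed_irreducibleComponent isIrreducible_irreducibleComponent
    mem_irreducibleComponent, topologicalKrullDim_component_gen hT mem_irreducibleComponent, hd]

theorem isOpen_rectified [IsNoetherian X]
    (hreg : ∀ x : X, IsRegularLocalRing ↑(X.presheaf.stalk x)) (hfin : topologicalKrullDim X < ⊤)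
    (hcomp : ∀ C ∈ irreducibleComponents (X : Type u), topologicalKrullDim ↥C = topologicalKrullDim X)
    (hchain : ∀ (y : X) (T : Set X), IsClosed T → IsIrreducible T → y ∈ T →
      topologicalKrullDim ↥T = topologicalKrullDim ↥(closure ({y} : Set X)) + topologicalKrullDim ↥{t : X | t ∈ T ∧ t ⤳ y})
    (hF : Coh.IsCoh F) (n : ℕ) :
    IsOpen {x : X | (n : WithBot ℕ∞) ≤
      ((LocCoh.depth ↑(X.presheaf.stalk x) ↑(F.presheaf.stalk x) : ℕ∞) : WithBot ℕ∞) +
        topologicalKrullDim ↥(closure ({x} : Set X))} := by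
  have hcl : ∀ x : X, ∃ c : ℕ∞, topologicalKrullDim ↥(closure ({x} : Set X)) = (c : WithBot ℕ∞) := fun x => by
    haveI : Nonempty ↥(closure ({x} : Set X)) := ⟨⟨x, subset_closure rfl⟩⟩
    have h : topologicalKrullDim ↥(closure ({x} : Set X)) ≠ ⊥ := by
      intro h
      haveI : Nonempty (TopologicalSpace.IrreducibleCloseds ↥(closure ({x} : Set X))) :=
        ⟨⟨closure {⟨x, subset_closure rfl⟩}, isIrreducible_singleton.closure, isClosed_closure⟩⟩
      exact (not_le.2 (WithBot.bot_lt_coe (0 : ℕ∞))) ((Order.krullDim_nonneg).trans_eq h)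
    exact (WithBot.ne_bot_iff_exists.1 h).imp fun c hc => hc.symm
  by_cases hsupp : ∀ x : X, x ∉ CohB1.support F
  · convert isOpen_univ (X := X) using 1
    refine Set.eq_univ_of_forall fun x => ?_
    have hs : Subsingleton (F.presheaf.stalk x) := by
      by_contra h
      exact hsupp x h
    obtain ⟨c, hc⟩ := hcl x
    rw [Set.mem_ofPred_eq, FlatLoc6.depth_top_of_subsingleton, hc, ← WithBot.coe_add, top_add]
    exact le_top
  push Not at hsupp
  obtain ⟨x₀, hx₀⟩ := hsupp
  obtain ⟨c₀, hc₀⟩ := hcl x₀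
  obtain ⟨d₀, a₀, -, -, -, -, hD₀⟩ := exists_invariants_regular F hreg hcomp hchain hF x₀ hx₀
  obtain ⟨N, hN⟩ : ∃ N : ℕ, topologicalKrullDim X = (N : WithBot ℕ∞) := by
    rw [hc₀] at hD₀
    rw [hD₀] at hfin ⊢
    induction c₀ using ENat.recTopCoe with
    | top =>
      change ((⊤ : ℕ∞) : WithBot ℕ∞) + ((d₀ : ℕ∞) : WithBot ℕ∞) < ((⊤ : ℕ∞) : WithBot ℕ∞) at hfin
      rw [← WithBot.coe_add, top_add] at hfin
      exact absurd hfin (lt_irrefl _)
    | coe c => exact ⟨c + d₀, by norm_cast⟩
  have hsc := (QCoh.isClosed_support_of_isFT hF.1 hF.2).isOpen_compl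
  have key : ∀ x : X, ((n : WithBot ℕ∞) ≤
      ((LocCoh.depth ↑(X.presheaf.stalk x) ↑(F.presheaf.stalk x) : ℕ∞) : WithBot ℕ∞) +
        topologicalKrullDim ↥(closure ({x} : Set X))) ↔
      x ∉ CohB1.support F ∨ (n ≤ N ∧ PdLE (X.presheaf.stalk x) (N - n) (F.presheaf.stalk x)) := by
    intro x
    obtain ⟨c, hc⟩ := hcl x
    by_cases hx : x ∈ CohB1.support F
    · obtain ⟨d, a, had, ha, hiff, -, hD⟩ := exists_invariants_regular F hreg hcomp hchain hF x hx
      rw [hN, hc] at hD
      rw [ha, hc, hiff]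
      induction c using ENat.recTopCoe with
      | top =>
        change ((N : ℕ∞) : WithBot ℕ∞) = ((⊤ : ℕ∞) : WithBot ℕ∞) + ((d : ℕ∞) : WithBot ℕ∞) at hD
        rw [← WithBot.coe_add, top_add, WithBot.coe_inj] at hD
        exact absurd hD (ENat.natCast_ne_top N)
      | coe c =>
        have hD' : N = c + d := by exact_mod_cast hD
        have hl : ((n : WithBot ℕ∞) ≤ ((a : ℕ∞) : WithBot ℕ∞) + ((c : ℕ∞) : WithBot ℕ∞)) ↔ n ≤ a + c := by norm_cast
        rw [hl]
        exact ⟨fun h => Or.inr ⟨by omega, by omega⟩, fun h => by rcases h with h | ⟨h1, h2⟩; exacts [absurd hx h, by omega]⟩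
    · refine iff_of_true ?_ (Or.inl hx)
      have hs : Subsingleton (F.presheaf.stalk x) := by
        by_contra h
        exact hx h
      rw [FlatLoc6.depth_top_of_subsingleton, hc, ← WithBot.coe_add, top_add]
      exact le_top
  by_cases hn : n ≤ N
  · convert hsc.union (isOpen_pdLE_stalk F hF (N - n)) using 1
    exact Set.ext fun x => (key x).trans (or_congr Iff.rfl (and_iff_right hn))
  · convert hsc using 1
    exact Set.ext fun x => (key x).trans (or_iff_left fun h => hn h.1)

end Scheme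

end Groth.Agent.RectCons
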